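import Cfsg.Agent.H798.OZ.Reg
import Cfsg.Agent.H130.TorEmb
import Cfsg.Agent.H985.VZ.Defs

/-!
# Elliptic elements of the Levi subgroups of `D.group F` (helper798, S4842)

* `exists_ell` : `w ∈ W_J` fixing no functional which is nonzero on a simple root of `J`, `t` a regular element of the
  torus of `D.group k`, `k` algebraically closed, `t^q = w t`: there is an element `s ∈ D.group F`, `|F| = q`, conjugate to
  `t` in `D.group k`, with `Ell J s`.
-/

set_option autoImplicit false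
set_option linter.unusedSectionVars false
set_option maxHeartbeats 400000

namespace Cfsg.Agent.H798.OZ

open CoxeterSystem Subgroup Cfsg Cfsg.Lie Cfsg.Lie.ChevalleyDatum
open Cfsg.Agent.ChevalleyStructure Cfsg.Agent.ChevalleyStructure.Elts Cfsg.Agent.ChevalleyStructure.CoxeterGeom
  Cfsg.Agent.ChevalleyStructure.CoxeterGeomTypes Cfsg.Agent.ChevalleyStructure.NPerm
open Cfsg.Agent.Tits.Roots Cfsg.Agent.Tits.Core Cfsg.Agent.Nodes Cfsg.Agent.Nodes.Reps Cfsg.Agent.Nodes.BNOf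
  Cfsg.Agent.Nodes.RGDChev Cfsg.Agent.Nodes.Bruhat Cfsg.Agent.Nodes.StabComb Cfsg.Agent.Nodes.LeviDec
open Cfsg.Agent.KFacts.RgdField Cfsg.Agent.KFacts.RgdChevCoord
open Cfsg.Agent.BpExc Cfsg.Agent.BpExc.TorCent Cfsg.Agent.BpExc.TorChev Cfsg.Agent.BpExc.Tow
open Cfsg.Agent.GpExc.Field Cfsg.Agent.BpExc.TowChev Cfsg.Agent.BpExc.Fr Cfsg.Agent.BpExc.LangFr
open Cfsg.Agent.H129.TorusChar Cfsg.Agent.H129.TorusMain Cfsg.Agent.H129.TorusUntw
open Cfsg.Agent.H985.VZ (Ell Free)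

universe u v

theorem rp_congr {I W Y : Type*} [Fintype I] [DecidableEq I] [Group W] [Group Y] {M : CoxeterMatrix I}
    {cs : CoxeterSystem M W} {T T' : Subgroup Y} {n : I → Y} (e : T = T') {hN : NSys M T n} {hN' : NSys M T' n}
    {w : W} {g : Y} (hg : Rp cs hN w g) : Rp cs hN' w g := by
  subst e
  exact hg

variable {D : ChevalleyDatum} {l : ℕ} {M : CoxeterMatrix (Fin l)} (hp : IsType D l M)
  {W : Type v} [Group W] (cs : CoxeterSystem M W)

section Emb

variable {F : Type u} [Field F] {k : Type u} [Field k] (f : F →+* k)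

include cs in
theorem rp_emb {hF : NSys M (TT D F) (nc hp F)} {hK : NSys M (TT D k) (nc hp k)} {w : W} {g : ↥(D.group F)}
    (hg : Rp cs hF w g) : Rp cs hK w (emb hp.inList f g) := by
  have key : ∀ ω : List (Fin l), ∃ g0, Rp cs hF (cs.wordProd ω) g0 ∧ Rp cs hK (cs.wordProd ω) (emb hp.inList f g0) := by
    intro ω
    induction ω with
    | nil =>
      refine ⟨1, ?_, ?_⟩
      · rw [wordProd_nil]; exact rp_one
      · rw [wordProd_nil, map_one]; exact rp_one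
    | cons i ω ih =>
      obtain ⟨g0, h1, h2⟩ := ih
      refine ⟨nc hp F i * g0, ?_, ?_⟩
      · rw [wordProd_cons]; exact (rp_simple cs hF i).mul h1
      · rw [wordProd_cons, map_mul, emb_nc]; exact (rp_simple cs hK i).mul h2
  obtain ⟨ω, rfl⟩ := cs.wordProd_surjective w
  obtain ⟨g0, h1, h2⟩ := key ω
  have h3 : g0⁻¹ * g ∈ TT D F := h1.unique hg
  have h4 : emb hp.inList f g = emb hp.inList f g0 * emb hp.inList f (g0⁻¹ * g) := by
    rw [← map_mul]; congr 1; group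
  rw [h4]
  exact h2.mul_mem_right (emb_T hp f ⟨_, h3, rfl⟩)

theorem emb_Sup {S : Set (Fin l → ℤ)} (hS : ∀ a ∈ S, IsRoot cs hp.isCartan a) {x : ↥(D.group F)}
    (hx : x ∈ RGD.Sup (XX D l F) S) : emb hp.inList f x ∈ RGD.Sup (XX D l k) S := by
  have h1 : RGD.Sup (XX D l F) S ≤ (RGD.Sup (XX D l k) S).comap (emb hp.inList f) :=
    RGD.Sup_le fun a ha y hy => (RGD.le_Sup ha) (emb_X hp f cs (hS a ha) ⟨y, hy, rfl⟩)
  exact h1 hx

theorem emb_VJ {J : Set (Fin l)} {x : ↥(D.group F)} (hx : x ∈ VJ cs hp.isCartan (XX D l F) J) :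
    emb hp.inList f x ∈ VJ cs hp.isCartan (XX D l k) J := emb_Sup hp cs f (fun _ ha => ha.1) hx

theorem emb_LJ {J : Set (Fin l)} {x : ↥(D.group F)} (hx : x ∈ LJ cs hp.isCartan (TT D F) (XX D l F) J) :
    emb hp.inList f x ∈ LJ cs hp.isCartan (TT D k) (XX D l k) J := by
  have h1 : LJ cs hp.isCartan (TT D F) (XX D l F) J ≤
      (LJ cs hp.isCartan (TT D k) (XX D l k) J).comap (emb hp.inList f) := by
    refine sup_le (fun y hy => ?_) (fun y hy => ?_)
    · exact (le_sup_left : TT D k ≤ LJ cs hp.isCartan (TT D k) (XX D l k) J) (emb_T hp f ⟨y, hy, rfl⟩)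
    · exact (le_sup_right : RGD.Sup (XX D l k) (RootsJ cs hp.isCartan J) ≤ LJ cs hp.isCartan (TT D k) (XX D l k) J)
        (emb_Sup hp cs f (fun _ ha => ha.1) hy)
  exact h1 hx

theorem emb_PJ {J : Set (Fin l)} {x : ↥(D.group F)} (hx : x ∈ PJ cs hp.isCartan (TT D F) (XX D l F) J) :
    emb hp.inList f x ∈ PJ cs hp.isCartan (TT D k) (XX D l k) J := by
  have h1 : PJ cs hp.isCartan (TT D F) (XX D l F) J ≤
      (PJ cs hp.isCartan (TT D k) (XX D l k) J).comap (emb hp.inList f) := by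
    refine sup_le (fun y hy => ?_) (fun y hy => ?_)
    · exact LJ_le_PJ (emb_LJ hp cs f hy)
    · exact VJ_le_PJ (emb_VJ hp cs f hy)
  exact h1 hx

end Emb

section K

variable {k : Type u} [Field k] [IsAlgClosed k] (hk : LocFin k) (p : ℕ) [Fact p.Prime] [CharP k p] [Finite W]

theorem eq_one_of_comm {t : ↥(D.group k)} (ht : t ∈ TT D k) {a : Fin l → ℤ} (ha : IsRoot cs hp.isCartan a)
    (h1 : cX hp t a ≠ 1) {x : ↥(D.group k)} (hx : x ∈ XX D l k a) (hc : t * x = x * t) : x = 1 := by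
  obtain ⟨r, hr, rfl⟩ := (isRoot_iff hp cs a).1 ha
  obtain ⟨c, hc'⟩ := (LangThm.mem_XX_vec hp hr).1 hx
  have h2 : x = xc hp (vec D l r) c := Subtype.ext (by rw [coe_xc hp hr, hc'])
  have h3 := (act hp hr ht).2 c
  rw [← h2, hc, mul_inv_cancel_right] at h3
  rw [h2] at h3
  have h4 := KFacts.RgdChevCoord.xc_inj hp hr h3
  rw [cX_vec hp ht hr] at h1
  have h5 : c = 0 := by
    have h6 : (ch hp (vec D l r) t - 1) * c = 0 := by linear_combination -h4
    exact (mul_eq_zero.1 h6).resolve_left (sub_ne_zero.2 h1)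
  rw [h2, h5]
  apply Subtype.ext
  rw [coe_xc hp hr, xG_zero, Subgroup.coe_one]

include hk p in
theorem exists_of_conjK (hN : NSys M (TT D k) (nc hp k)) {K : Set (Fin l)} {t y : ↥(D.group k)} (ht : t ∈ TT D k)
    (hreg : ∀ a, IsRoot cs hp.isCartan a → cX hp t a ≠ 1)
    (h1 : y * t * y⁻¹ ∈ PJ cs hp.isCartan (TT D k) (XX D l k) K) :
    ∃ a ∈ PJ cs hp.isCartan (TT D k) (XX D l k) K, ∃ w g, Rp cs hN w g ∧ y = a * g := by
  have H := tow hp cs hk p
  obtain ⟨a, ha, w, g, hg, e⟩ := exists_of_conjL H (K := K) (t := t) (y := y) (by rw [TL_eq hp hk]; exact ht)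
    (fun a ha h0 x hx hc => eq_one_of_comm hp cs ht ha (hreg a ha) (by rwa [XL_eq hp hk] at hx) hc)
    (by rw [GG_eq_top hp cs hk]; exact Subgroup.mem_top y) (by rw [TL_eq hp hk, XL_eq hp hk]; exact h1)
  rw [TL_eq hp hk, XL_eq hp hk] at ha
  exact ⟨a, ha, w, g, rp_congr (TL_eq hp hk) hg, e⟩

include hk p in
theorem mem_WJ_of_repK {hN : NSys M (TT D k) (nc hp k)} {K : Set (Fin l)} {w : W} {g : ↥(D.group k)}
    (hg : Rp cs hN w g) (h1 : g ∈ PJ cs hp.isCartan (TT D k) (XX D l k) K) : w ∈ WJ cs K := by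
  have H := tow hp cs hk p
  refine mem_WJ_of_repL H (g := g) (rp_congr (TL_eq hp hk).symm hg) ?_
  rw [TL_eq hp hk, XL_eq hp hk]; exact h1

include hk p in
theorem rp_mem_LJK {hN : NSys M (TT D k) (nc hp k)} {K : Set (Fin l)} {w : W} (hw : w ∈ WJ cs K) {g : ↥(D.group k)}
    (hg : Rp cs hN w g) : g ∈ LJ cs hp.isCartan (TT D k) (XX D l k) K := by
  have H := tow hp cs hk p
  have h1 := rp_mem_LJL H hw (g := g) (rp_congr (TL_eq hp hk).symm hg)
  rwa [TL_eq hp hk, XL_eq hp hk] at h1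

include hk p in
theorem LJK_inf_VJK {J : Set (Fin l)} {y : ↥(D.group k)} (h1 : y ∈ LJ cs hp.isCartan (TT D k) (XX D l k) J)
    (h2 : y ∈ VJ cs hp.isCartan (XX D l k) J) : y = 1 := by
  have H := tow hp cs hk p
  refine LJL_inf_VJL H (J := J) ?_ ?_
  · rw [TL_eq hp hk, XL_eq hp hk]; exact h1
  · rw [XL_eq hp hk]; exact h2

include hk p in
theorem PJK_conj_mem {J : Set (Fin l)} {y v : ↥(D.group k)} (h1 : y ∈ PJ cs hp.isCartan (TT D k) (XX D l k) J)
    (h2 : v ∈ VJ cs hp.isCartan (XX D l k) J) : y * v * y⁻¹ ∈ VJ cs hp.isCartan (XX D l k) J := by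
  have H := tow hp cs hk p
  have h3 := H381.Car.PJL_conj_mem H (J := J) (y := y) (v := v) (by rw [TL_eq hp hk, XL_eq hp hk]; exact h1)
    (by rw [XL_eq hp hk]; exact h2)
  rwa [XL_eq hp hk] at h3

include hk p in
theorem eq_one_of_comm_U {t : ↥(D.group k)} (ht : t ∈ TT D k) (hreg : ∀ a, IsRoot cs hp.isCartan a → cX hp t a ≠ 1)
    {z : ↥(D.group k)} (hz : z ∈ RGD.Sup (XX D l k) (RGD.Pos cs hp.isCartan)) (hc : t * z = z * t) : z = 1 := by
  have H := tow hp cs hk p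
  obtain ⟨j, hj⟩ := H.mem_TL.1 (show t ∈ TL (Tj hp (k := k)) by rw [TL_eq hp hk]; exact ht)
  refine H381.Car.eq_one_of_centralizerL H (S := {t}) (j0 := j) (Set.singleton_subset_iff.2 hj)
    (fun a ha _ u hu huc => ?_) (z := z) (by rw [XL_eq hp hk]; exact hz) (mem_centralizer_singleton_iff.2 hc.symm)
  rw [XL_eq hp hk] at hu
  exact eq_one_of_comm hp cs ht ha (hreg a ha) hu (mem_centralizer_singleton_iff.1 huc).symm

include hk in
theorem lang_LJ (hZ : Subgroup.center ↥(D.group k) = ⊥) {e : ℕ} (he : 0 < e) {σ : MulAut ↥(D.group k)}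
    (hσ : IsFrob p e σ) (F : Fr cs hp.isCartan (TT D k) (XX D l k) σ (AddEquiv.refl _)) {J : Set (Fin l)}
    {m : ↥(D.group k)} (hm : m ∈ LJ cs hp.isCartan (TT D k) (XX D l k) J) :
    ∃ y ∈ LJ cs hp.isCartan (TT D k) (XX D l k) J, m = y⁻¹ * σ y := by
  unfold LJ at hm ⊢
  set S := RootsJ cs hp.isCartan J with hS
  have hSr : ∀ a ∈ S, IsRoot cs hp.isCartan a := fun a ha => ha.1
  have hTn : TT D k ≤ normalizer (RGD.Sup (XX D l k) S : Set ↥(D.group k)) := by
    have h1 := (tow hp cs hk p (k := k)).T_le_normalizer hSr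
    rwa [TL_eq hp hk, XL_eq hp hk] at h1
  obtain ⟨t, ht, x, hx, rfl⟩ := Cfsg.Agent.H18.Carter.mul_mem_of_norm' hTn hm
  have hx' : t * x * t⁻¹ ∈ RGD.Sup (XX D l k) S := (mem_normalizer_iff.1 (hTn ht) x).1 hx
  obtain ⟨u, hu, hut⟩ := H696.GmnToral.torus_lang hp cs hk hZ he hσ F ht
  have hx2 : u * (t * x * t⁻¹) * u⁻¹ ∈ RGD.Sup (XX D l k) S := (mem_normalizer_iff.1 (hTn hu) _).1 hx'
  obtain ⟨z, hz, hzx⟩ := lang_fr hp cs he hσ F (S := S) hSr (fun _ ha => ha) hx2
  refine ⟨z * u, mul_mem (mem_sup_right hz) (mem_sup_left hu), ?_⟩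
  rw [map_mul]
  calc t * x = u⁻¹ * (u * (t * x * t⁻¹) * u⁻¹) * (u * t) := by group
    _ = u⁻¹ * (z⁻¹ * σ z) * (u * t) := by rw [← hzx]
    _ = u⁻¹ * (z⁻¹ * σ z) * (u * (u⁻¹ * σ u)) := by rw [← hut]
    _ = (z * u)⁻¹ * (σ z * σ u) := by group

end K

section Main

variable [Finite W] {F : Type u} [Field F] [Fintype F] {k : Type u} [Field k] [IsAlgClosed k] (hk : LocFin k)
  {p : ℕ} [Fact p.Prime] [CharP k p] (f : F →+* k)

theorem PJ_mono {Y : Type*} [Group Y] {T : Subgroup Y} {X : (Fin l → ℤ) → Subgroup Y} {K J : Set (Fin l)}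
    (hKJ : K ⊆ J) : PJ cs hp.isCartan T X K ≤ PJ cs hp.isCartan T X J := by
  refine sup_le (sup_le ?_ (RGD.Sup_le fun a ha => ?_)) (RGD.Sup_le fun a ha => ?_)
  · exact le_trans (le_sup_left : T ≤ LJ cs hp.isCartan T X J) LJ_le_PJ
  · have h1 : a ∈ RootsJ cs hp.isCartan J := ⟨ha.1, fun i hi => ha.2 i fun h => hi (hKJ h)⟩
    exact le_trans (X_le_LJ h1) LJ_le_PJ
  · by_cases h1 : ∃ i, i ∉ J ∧ 0 < a i
    · have h2 : a ∈ NotJ cs hp.isCartan J := ⟨ha.1, ha.2.1, h1⟩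
      exact le_trans (RGD.le_Sup h2) VJ_le_PJ
    · push Not at h1
      have h2 : a ∈ RootsJ cs hp.isCartan J := ⟨ha.1, fun i hi => le_antisymm (h1 i hi) (ha.2.1 i)⟩
      exact le_trans (X_le_LJ h2) LJ_le_PJ

include hk p in
theorem mem_PJ_of_emb [CharP F p] {J : Set (Fin l)} {x : ↥(D.group F)}
    (hx : emb hp.inList f x ∈ PJ cs hp.isCartan (TT D k) (XX D l k) J) :
    x ∈ PJ cs hp.isCartan (TT D F) (XX D l F) J := by
  have R := rgd (K := F) hp cs p
  have hG : GG cs hp.isCartan (TT D F) (XX D l F) = ⊤ := KFacts.RgdFilt.GG_eq_top (G1_eq_top (K := F) hp cs)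
  obtain ⟨w, b₁, hb₁, g, hg, b₂, hb₂, rfl⟩ := (mem_GG R).1 (show x ∈ GG cs hp.isCartan (TT D F) (XX D l F) by
    rw [hG]; exact Subgroup.mem_top x)
  have h1 : b₁ ∈ PJ cs hp.isCartan (TT D F) (XX D l F) J := B_le_PJ hb₁
  have h2 : b₂ ∈ PJ cs hp.isCartan (TT D F) (XX D l F) J := B_le_PJ hb₂
  have h3 : emb hp.inList f g ∈ PJ cs hp.isCartan (TT D k) (XX D l k) J := by
    have h4 : emb hp.inList f g = (emb hp.inList f b₁)⁻¹ * emb hp.inList f (b₁ * g * b₂) * (emb hp.inList f b₂)⁻¹ := by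
      rw [map_mul, map_mul]; group
    rw [h4]
    exact mul_mem (mul_mem (inv_mem (emb_PJ hp cs f h1)) hx) (inv_mem (emb_PJ hp cs f h2))
  have h5 : w ∈ WJ cs J :=
    mem_WJ_of_repK hp cs hk p (rp_emb hp cs f (hF := R.nsys) (hK := nsys_of_locFin hp cs hk p) hg) h3
  exact mul_mem (mul_mem h1 (LJ_le_PJ (rp_mem_LJ R h5 hg))) h2

include hk in
/-- **Elliptic elements.** -/
theorem exists_ell [CharP F p] {e : ℕ} (he : 0 < e) (hq : Fintype.card F = p ^ e)
    (hZ : Subgroup.center ↥(D.group k) = ⊥) {d : ℕ} {B : Fin l → Fin l → ℤ} (hB : InvC D l d B) (hd : d ≠ 0)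
    {m : ℕ} (hm : m.Coprime d) {t : ↥(D.group k)} (ht : t ∈ TT D k) (htm : t ^ m = 1) {J : Set (Fin l)} {w : W}
    (hwJ : w ∈ WJ cs J) (hw : ∀ x, cX hp t (rep cs hp.isCartan w x) = cX hp t x ^ p ^ e)
    (hreg : ∀ a, IsRoot cs hp.isCartan a → cX hp t a ≠ 1)
    (hell : ∀ g : (Fin l → ℤ) →+ ℤ, (∀ x, g (rep cs hp.isCartan w x) = g x) → ∀ j ∈ J, g (sr j) = 0) :
    ∃ (s : ↥(D.group F)) (z : ↥(D.group k)), emb hp.inList f s = z * t * z⁻¹ ∧
      Ell cs hp.isCartan (TT D F) (XX D l F) J s := by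
  let hN : NSys M (TT D k) (nc hp k) := nsys_of_locFin hp cs hk p
  have hFr := fr_phi (k := k) (p := p) (e := e) hp cs
  have R := rgd (K := F) hp cs p
  obtain ⟨n, hn⟩ := exists_rp cs hN w
  obtain ⟨z, hzJ, hz⟩ := lang_LJ hp cs hk p hZ he (isFrob_phi (D := D) (k := k) (p := p) (e := e)) hFr
    (rp_mem_LJK hp cs hk p hwJ hn)
  have hτ : n * phi D k p e t * n⁻¹ = t := by
    rw [tau_iff hp cs hk isFrob_phi hFr hn ht]
    intro x
    rw [theta_apply]
    exact hw x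
  obtain ⟨s, hs⟩ := H130.TorEmb.mem_range_of_pow hp cs f hq hB hd hm (conj_fixed hz hτ (Subgroup.mem_zpowers t)) (by
    rw [conj_pow, htm, mul_one, mul_inv_cancel])
  have htJ : t ∈ LJ cs hp.isCartan (TT D k) (XX D l k) J :=
    (le_sup_left : TT D k ≤ LJ cs hp.isCartan (TT D k) (XX D l k) J) ht
  have hsJ : emb hp.inList f s ∈ LJ cs hp.isCartan (TT D k) (XX D l k) J := by
    rw [hs]; exact mul_mem (mul_mem hzJ htJ) (inv_mem hzJ)
  have hmem : s ∈ LJ cs hp.isCartan (TT D F) (XX D l F) J := by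
    obtain ⟨y, hy, v, hv, rfl⟩ := (mem_PJ R).1 (mem_PJ_of_emb hp cs hk (p := p) f (LJ_le_PJ hsJ))
    have h1 : emb hp.inList f v ∈ LJ cs hp.isCartan (TT D k) (XX D l k) J := by
      have h2 : emb hp.inList f v = (emb hp.inList f y)⁻¹ * emb hp.inList f (y * v) := by rw [map_mul]; group
      rw [h2]
      exact mul_mem (inv_mem (emb_LJ hp cs f hy)) hsJ
    have h2 := LJK_inf_VJK hp cs hk p h1 (emb_VJ hp cs f hv)
    have h3 : v = 1 := emb_injective hp.inList f (by rw [h2, map_one])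
    rw [h3, mul_one]; exact hy
  refine ⟨s, z, hs, ⟨hmem, fun v hv hc => ?_⟩, fun K hKJ y hy hc => ?_⟩
  · have h1 : z⁻¹ * emb hp.inList f v * z ∈ VJ cs hp.isCartan (XX D l k) J := by
      have := PJK_conj_mem hp cs hk p (LJ_le_PJ (inv_mem hzJ)) (emb_VJ hp cs f hv)
      rwa [inv_inv] at this
    have h2 : z⁻¹ * emb hp.inList f v * z = 1 := by
      refine eq_one_of_comm_U hp cs hk p ht hreg (VJ_le_U J h1) ?_
      have h3 : emb hp.inList f s * emb hp.inList f v = emb hp.inList f v * emb hp.inList f s := by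
        rw [← map_mul, hc, map_mul]
      rw [hs] at h3
      calc t * (z⁻¹ * emb hp.inList f v * z) = z⁻¹ * (z * t * z⁻¹ * emb hp.inList f v) * z := by group
        _ = z⁻¹ * (emb hp.inList f v * (z * t * z⁻¹)) * z := by rw [h3]
        _ = _ := by group
    have h3 : emb hp.inList f v = 1 := by
      have : emb hp.inList f v = z * (z⁻¹ * emb hp.inList f v * z) * z⁻¹ := by group
      rw [this, h2]; group
    exact emb_injective hp.inList f (by rw [h3, map_one])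
  · -- the elliptic property
    set y' := emb hp.inList f y * z with hy'
    have hy'J : y' ∈ LJ cs hp.isCartan (TT D k) (XX D l k) J := mul_mem (emb_LJ hp cs f hy) hzJ
    have h1 : y' * t * y'⁻¹ ∈ PJ cs hp.isCartan (TT D k) (XX D l k) K := by
      have h2 := emb_PJ hp cs f hc
      rw [map_mul, map_mul, map_inv, hs] at h2
      have h3 : y' * t * y'⁻¹ = emb hp.inList f y * (z * t * z⁻¹) * (emb hp.inList f y)⁻¹ := by rw [hy']; group
      rw [h3]; exact h2
    obtain ⟨a, ha, x, g, hg, e1⟩ := exists_of_conjK hp cs hk p hN ht hreg h1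
    have hPP : PJ cs hp.isCartan (TT D k) (XX D l k) K ≤ PJ cs hp.isCartan (TT D k) (XX D l k) J :=
      PJ_mono hp cs hKJ.subset
    have hxJ : x ∈ WJ cs J := by
      refine mem_WJ_of_repK hp cs hk p hg ?_
      have : g = a⁻¹ * y' := by rw [e1]; group
      rw [this]
      exact mul_mem (inv_mem (hPP ha)) (LJ_le_PJ hy'J)
    -- the Frobenius
    have h2 : phi D k p e y' = y' * n := by
      rw [hy', map_mul, phi_emb hp f hq, hz]; group
    have hphiP : phi D k p e a ∈ PJ cs hp.isCartan (TT D k) (XX D l k) K := by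
      rw [phi_eq hp]; exact emb_PJ hp cs _ ha
    have hphig : Rp cs hN x (phi D k p e g) := by
      rw [phi_eq hp]; exact rp_emb hp cs _ hg
    have h3 : g * n * (phi D k p e g)⁻¹ = a⁻¹ * phi D k p e a := by
      have h4 : a * g * n = phi D k p e a * phi D k p e g := by rw [← map_mul, ← e1, h2]
      calc g * n * (phi D k p e g)⁻¹ = a⁻¹ * (a * g * n) * (phi D k p e g)⁻¹ := by group
        _ = a⁻¹ * (phi D k p e a * phi D k p e g) * (phi D k p e g)⁻¹ := by rw [h4]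
        _ = _ := by group
    have h4 : x * w * x⁻¹ ∈ WJ cs K := by
      refine mem_WJ_of_repK hp cs hk p ((hg.mul hn).mul hphig.inv) ?_
      rw [h3]
      exact mul_mem (inv_mem ha) hphiP
    -- the functional
    obtain ⟨j, hjJ, hjK⟩ := Set.exists_of_ssubset hKJ
    let g0 : (Fin l → ℤ) →+ ℤ := (Pi.evalAddMonoidHom (fun _ : Fin l => ℤ) j).comp
      (rep cs hp.isCartan x).toAddMonoidHom
    have hg0 : ∀ v, g0 v = rep cs hp.isCartan x v j := fun v => rfl
    have h5 := hell g0 (fun v => by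
      rw [hg0, hg0]
      have h6 : rep cs hp.isCartan x (rep cs hp.isCartan w v) = rep cs hp.isCartan (x * w * x⁻¹) (rep cs hp.isCartan x v) := by
        rw [← rep_mul_apply, ← rep_mul_apply]
        congr 2
        group
      rw [h6]
      exact Cfsg.Agent.Tits.RootComb.rep_apply_of_mem cs hp.isCartan h4 _ hjK)
    have h6 : g0 (rep cs hp.isCartan x⁻¹ (sr j)) = 1 := by
      rw [hg0, rep_apply_inv, sr_self]
    have h7 : g0 (rep cs hp.isCartan x⁻¹ (sr j)) = 0 := by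
      set b := rep cs hp.isCartan x⁻¹ (sr j : Fin l → ℤ) with hb
      have h8 : b = ∑ i, b i • (sr i : Fin l → ℤ) := IsMC.eq_sum_sr b
      rw [h8, map_sum]
      refine Finset.sum_eq_zero fun i _ => ?_
      rw [map_zsmul]
      by_cases hi : i ∈ J
      · rw [h5 i hi, smul_zero]
      · have h9 : b i = 0 := by
          rw [hb, Cfsg.Agent.Tits.RootComb.rep_apply_of_mem cs hp.isCartan (inv_mem hxJ) _ hi, sr_ne]
          rintro rfl
          exact hi hjJ
        rw [h9, zero_smul]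
    rw [h6] at h7
    exact one_ne_zero h7

end Main

end Cfsg.Agent.H798.OZ
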