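import Cfsg.Agent.H798.OZ.Ell
import Cfsg.Agent.H557.LrData

/-!
# Elliptic elements from functionals modulo `N` (helper798, S4842)

* `exists_ell_fun` : `G : ℤ^l → ℤ` with `G (w x) ≡ q G x mod N`, `N ∤ G a` for all roots `a` : an element `s` of
  `D.group F`, `|F| = q`, with `Ell J s`, and `s ^ m = 1` iff `N ∣ m G (α_i)` for all `i`.
-/

set_option autoImplicit false
set_option linter.unusedSectionVars false
set_option maxHeartbeats 400000

namespace Cfsg.Agent.H798.OZ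

open CoxeterSystem Subgroup Cfsg Cfsg.Lie Cfsg.Lie.ChevalleyDatum
open Cfsg.Agent.ChevalleyStructure Cfsg.Agent.ChevalleyStructure.Elts Cfsg.Agent.ChevalleyStructure.CoxeterGeom
  Cfsg.Agent.ChevalleyStructure.CoxeterGeomTypes Cfsg.Agent.ChevalleyStructure.NPerm
open Cfsg.Agent.Tits.Roots Cfsg.Agent.Tits.Core Cfsg.Agent.Nodes Cfsg.Agent.Nodes.Reps Cfsg.Agent.Nodes.BNOf
  Cfsg.Agent.Nodes.RGDChev Cfsg.Agent.Nodes.Bruhat Cfsg.Agent.Nodes.StabComb Cfsg.Agent.Nodes.LeviDec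
open Cfsg.Agent.KFacts.RgdField Cfsg.Agent.KFacts.RgdChevCoord
open Cfsg.Agent.BpExc Cfsg.Agent.BpExc.TorCent Cfsg.Agent.BpExc.TorChev Cfsg.Agent.BpExc.Tow
open Cfsg.Agent.GpExc.Field Cfsg.Agent.BpExc.TowChev Cfsg.Agent.BpExc.Fr Cfsg.Agent.BpExc.LangFr
open Cfsg.Agent.H129.TorusChar Cfsg.Agent.H129.TorusMain Cfsg.Agent.H129.TorusUntw
open Cfsg.Agent.H985.VZ (Ell Free)

universe u v

/-- additive functions -/
theorem hom_eq {l : ℕ} (g : (Fin l → ℤ) →+ ℤ) (x : Fin l → ℤ) : g x = ∑ i, x i * g (sr i) := by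
  conv_lhs => rw [IsMC.eq_sum_sr x]
  rw [map_sum]
  exact Finset.sum_congr rfl fun i _ => by rw [map_zsmul, smul_eq_mul]

theorem dvd_of_sr {l : ℕ} {N : ℤ} (g : (Fin l → ℤ) →+ ℤ) (h : ∀ i, N ∣ g (sr i)) (x : Fin l → ℤ) : N ∣ g x := by
  rw [hom_eq g x]
  exact Finset.dvd_sum fun i _ => (h i).mul_left _

variable {D : ChevalleyDatum} {l : ℕ} {M : CoxeterMatrix (Fin l)} (hp : IsType D l M)
  {W : Type v} [Group W] [Finite W] (cs : CoxeterSystem M W)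

theorem exists_ell_fun {F : Type u} [Field F] [Fintype F] {q : ℕ} (hq : Fintype.card F = q)
    (hZ : Subgroup.center ↥(D.group (AlgebraicClosure F)) = ⊥) {d : ℕ} {B : Fin l → Fin l → ℤ} (hB : InvC D l d B)
    (hd : d ≠ 0) {N : ℕ} (hNd : N.Coprime d) (hqN : q.Coprime N) {J : Set (Fin l)} {w : W} (hwJ : w ∈ WJ cs J)
    (G : (Fin l → ℤ) →+ ℤ) (hw : ∀ i, (N : ℤ) ∣ G (rep cs hp.isCartan w (sr i)) - q * G (sr i))
    (hreg : ∀ r < D.nroots, ¬ (N : ℤ) ∣ G (vec D l r))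
    (hell : ∀ g : (Fin l → ℤ) →+ ℤ, (∀ x, g (rep cs hp.isCartan w x) = g x) → ∀ j ∈ J, g (sr j) = 0) :
    ∃ s : ↥(D.group F), Ell cs hp.isCartan (TT D F) (XX D l F) J s ∧
      ∀ m : ℕ, s ^ m = 1 ↔ ∀ i, (N : ℤ) ∣ m * G (sr i) := by
  obtain ⟨p, e, hpF, hpc, hpk, he, rfl, hk⟩ := exists_closure hq
  set k := AlgebraicClosure F with hkdef
  have hpN : ¬ p ∣ N := fun h1 => by
    have h2 : p ∣ Nat.gcd (p ^ e) N := Nat.dvd_gcd (dvd_pow_self p he.ne') h1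
    rw [hqN] at h2
    exact hpF.out.one_lt.ne' (Nat.dvd_one.1 h2)
  have hNk : (N : k) ≠ 0 := by
    rw [Ne, CharP.cast_eq_zero_iff k p]
    exact hpN
  have : NeZero ((N : ℕ) : k) := ⟨hNk⟩
  obtain ⟨ζ, hζ⟩ := HasEnoughRootsOfUnity.exists_primitiveRoot k N
  have hN0 : N ≠ 0 := fun h => hNk (by rw [h, Nat.cast_zero])
  have hζ0 : ζ ≠ 0 := hζ.ne_zero hN0
  have hMC : IsMC (fun x : Fin l → ℤ => ζ ^ G x) :=
    ⟨by show ζ ^ G 0 = 1; rw [map_zero, zpow_zero], fun x y => by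
      show ζ ^ G (x + y) = ζ ^ G x * ζ ^ G y
      rw [map_add, zpow_add₀ hζ0]⟩
  obtain ⟨t, ht, hcX⟩ := exists_cX hp hB hd hMC (fun _ => IsAlgClosed.exists_pow_nat_eq _ (Nat.pos_of_ne_zero hd))
  have hone : ∀ g : ℤ, ζ ^ g = 1 ↔ (N : ℤ) ∣ g := fun g => hζ.zpow_eq_one_iff_dvd g
  have hpow : ∀ m : ℕ, t ^ m = 1 ↔ ∀ i, (N : ℤ) ∣ m * G (sr i) := by
    intro m
    have h1 : ∀ i, cX hp (t ^ m) (sr i) = ζ ^ ((m : ℤ) * G (sr i)) := by
      intro i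
      rw [cX_pow hp ht, hcX, ← zpow_natCast, ← zpow_mul, mul_comm]
    constructor
    · intro h i
      rw [← hone, ← h1, h, cX_one]
    · intro h
      refine cX_inj hp (pow_mem ht m) (one_mem _) fun i => ?_
      rw [h1, cX_one, hone]
      exact h i
  have hw' : ∀ x, (N : ℤ) ∣ G (rep cs hp.isCartan w x) - ((p ^ e : ℕ) : ℤ) * G x := by
    let G' : (Fin l → ℤ) →+ ℤ := G.comp (rep cs hp.isCartan w).toAddMonoidHom - ((p ^ e : ℕ) : ℤ) • G
    have h1 : ∀ x, G' x = G (rep cs hp.isCartan w x) - ((p ^ e : ℕ) : ℤ) * G x := fun x => rfl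
    intro x
    rw [← h1]
    refine dvd_of_sr G' (fun i => ?_) x
    rw [h1]
    exact hw i
  obtain ⟨s, z, hs, hE⟩ := exists_ell hp cs hk (p := p) (algebraMap F k) he hq hZ hB hd hNd ht
    ((hpow N).2 fun i => Dvd.intro _ rfl) hwJ (fun x => by
      rw [hcX, hcX, ← zpow_natCast, ← zpow_mul]
      have h1 : ζ ^ (G (rep cs hp.isCartan w x) - ((p ^ e : ℕ) : ℤ) * G x) = 1 := (hone _).2 (hw' x)
      rw [zpow_sub₀ hζ0, div_eq_one_iff_eq (zpow_ne_zero _ hζ0)] at h1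
      rw [h1, mul_comm]) (fun a ha => by
      obtain ⟨r, hr, rfl⟩ := (isRoot_iff hp cs a).1 ha
      rw [hcX, Ne, hone]
      exact hreg r hr) hell
  refine ⟨s, hE, fun m => ?_⟩
  rw [← hpow m]
  have h1 : s ^ m = 1 ↔ emb hp.inList (algebraMap F k) (s ^ m) = 1 := by
    constructor
    · intro h; rw [h, map_one]
    · intro h; exact emb_injective hp.inList (algebraMap F k) (by rw [h, map_one])
  rw [h1, map_pow, hs, conj_pow, mul_inv_eq_one, mul_eq_left]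

/-- powers distinguish classes -/
theorem not_isConj {Y : Type*} [Group Y] {s t : Y} {m : ℕ} (h1 : s ^ m = 1) (h2 : t ^ m ≠ 1) : ¬ IsConj s t := by
  intro h
  obtain ⟨g, rfl⟩ := isConj_iff.1 h
  apply h2
  rw [conj_pow, h1, mul_one, mul_inv_cancel]

end Cfsg.Agent.H798.OZ
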