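import Cfsg.Agent.H798.OZ.EllFun

/-!
# Elliptic elements of the Levi subgroups of `F₄(q)` (helper798, S4842)

Nodes `0, 1` short, `2, 3` long.

* `elts_013`, `elts_023` : two non conjugate elements `Ell {0, 1, 3}`, `Ell {0, 2, 3}`, `q ≥ 3`; `elt_013`, `elt_023` :
  one for all `q ≥ 2`;
* `elts_BC` : non conjugate elements `Ell {1, 2, 3}`, `Ell {0, 1, 2}`, `q ≥ 6` or `q = 4`.
-/

set_option autoImplicit false
set_option linter.unusedSectionVars false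
set_option maxHeartbeats 400000

namespace Cfsg.Agent.H798.OZ

open CoxeterSystem Subgroup Cfsg Cfsg.Lie Cfsg.Lie.ChevalleyDatum
open Cfsg.Agent.ChevalleyStructure Cfsg.Agent.ChevalleyStructure.Elts Cfsg.Agent.ChevalleyStructure.CoxeterGeom
  Cfsg.Agent.ChevalleyStructure.CoxeterGeomTypes Cfsg.Agent.ChevalleyStructure.NPerm
open Cfsg.Agent.Tits.Roots Cfsg.Agent.Tits.Core Cfsg.Agent.Nodes Cfsg.Agent.Nodes.Reps Cfsg.Agent.Nodes.BNOf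
  Cfsg.Agent.Nodes.RGDChev Cfsg.Agent.Nodes.Bruhat Cfsg.Agent.Nodes.StabComb Cfsg.Agent.Nodes.LeviDec
open Cfsg.Agent.KFacts.RgdChevCoord Cfsg.Agent.GenExc.Chev
open Cfsg.Agent.H129.TorusChar Cfsg.Agent.H557.LrData Cfsg.Agent.H557.LrRho
open Cfsg.Agent.H985.VZ (Ell Free)

universe u v

/-- the functional with the values `c i` on the simple roots -/
def fn {l : ℕ} (c : Fin l → ℤ) : (Fin l → ℤ) →+ ℤ where
  toFun x := ∑ i, x i * c i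
  map_zero' := by simp
  map_add' x y := by rw [← Finset.sum_add_distrib]; exact Finset.sum_congr rfl fun i _ => by rw [Pi.add_apply, add_mul]

theorem fn_sr {l : ℕ} (c : Fin l → ℤ) (i : Fin l) : fn c (sr i) = c i := by
  show ∑ j, (sr i : Fin l → ℤ) j * c j = c i
  rw [Finset.sum_eq_single i]
  · rw [sr_self, one_mul]
  · intro j _ hj; rw [sr_ne hj, zero_mul]
  · intro h; exact absurd (Finset.mem_univ _) h

theorem fn_apply {l : ℕ} (c : Fin l → ℤ) (x : Fin l → ℤ) : fn c x = ∑ i, x i * c i := rfl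

/-! ### polynomials -/

theorem quad_ne {q A0 A1 A2 C : ℤ} (hC : 0 < C) (hq : C < q) (h0 : |A0| ≤ C) (h1 : |A1| ≤ C) (_h2 : |A2| ≤ C)
    (hne : A0 ≠ 0 ∨ A1 ≠ 0 ∨ A2 ≠ 0) : A0 + A1 * q + A2 * q ^ 2 ≠ 0 := by
  intro h
  have hq0 : q ≠ 0 := by omega
  have e0 : A0 = 0 := by
    refine Int.eq_zero_of_abs_lt_dvd (m := q) ⟨-(A1 + A2 * q), ?_⟩ (lt_of_le_of_lt h0 hq)
    linear_combination h
  have e1 : A1 + A2 * q = 0 := by
    have : q * (A1 + A2 * q) = 0 := by rw [e0] at h; linear_combination h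
    exact (mul_eq_zero.1 this).resolve_left hq0
  have e2 : A1 = 0 := by
    refine Int.eq_zero_of_abs_lt_dvd (m := q) ⟨-A2, ?_⟩ (lt_of_le_of_lt h1 hq)
    linear_combination e1
  have e3 : A2 = 0 := by
    have : q * A2 = 0 := by rw [e2] at e1; linear_combination e1
    exact (mul_eq_zero.1 this).resolve_left hq0
  rcases hne with h | h | h
  · exact h e0
  · exact h e2
  · exact h e3

theorem cub_ne {q A0 A1 A2 A3 C : ℤ} (hC : 0 < C) (hq : C < q) (h0 : |A0| ≤ C) (h1 : |A1| ≤ C) (h2 : |A2| ≤ C)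
    (h3 : |A3| ≤ C) (hne : A0 ≠ 0 ∨ A1 ≠ 0 ∨ A2 ≠ 0 ∨ A3 ≠ 0) : A0 + A1 * q + A2 * q ^ 2 + A3 * q ^ 3 ≠ 0 := by
  intro h
  have hq0 : q ≠ 0 := by omega
  have e0 : A0 = 0 := by
    refine Int.eq_zero_of_abs_lt_dvd (m := q) ⟨-(A1 + A2 * q + A3 * q ^ 2), ?_⟩ (lt_of_le_of_lt h0 hq)
    linear_combination h
  have e1 : A1 + A2 * q + A3 * q ^ 2 = 0 := by
    have : q * (A1 + A2 * q + A3 * q ^ 2) = 0 := by rw [e0] at h; linear_combination h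
    exact (mul_eq_zero.1 this).resolve_left hq0
  refine quad_ne hC hq h1 h2 h3 ?_ e1
  rcases hne with h | h
  · exact absurd e0 h
  · exact h

theorem quad_not_dvd {q A0 A1 A2 C : ℤ} (hC : 0 < C) (hq : C < q) (h0 : |A0| ≤ C) (h1 : |A1| ≤ C) (h2 : |A2| ≤ C)
    (hne : A0 ≠ 0 ∨ A1 ≠ 0 ∨ A2 ≠ 0) : ¬ (q ^ 2 + q + 1) * (q + 1) ∣ A0 + A1 * q + A2 * q ^ 2 := by
  intro h
  refine quad_ne hC hq h0 h1 h2 hne (Int.eq_zero_of_abs_lt_dvd h ?_)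
  rw [abs_le] at h0 h1 h2
  rw [abs_lt]
  constructor <;> nlinarith [mul_nonneg (by linarith : 0 ≤ C - A1) (by linarith : 0 ≤ q),
    mul_nonneg (by linarith : 0 ≤ C - A2) (sq_nonneg q), mul_nonneg (by linarith : 0 ≤ C + A1) (by linarith : 0 ≤ q),
    mul_nonneg (by linarith : 0 ≤ C + A2) (sq_nonneg q), sq_nonneg q,
    mul_nonneg (by linarith : 0 ≤ q - C) (by nlinarith [sq_nonneg q] : 0 ≤ q ^ 2 + q + 1)]

theorem cub_not_dvd {q A0 A1 A2 A3 C : ℤ} (hC : 0 < C) (hq : C + 1 < q) (h0 : |A0| ≤ C) (h1 : |A1| ≤ C)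
    (h2 : |A2| ≤ C) (h3 : |A3| ≤ C) (hne : A0 ≠ 0 ∨ A1 ≠ 0 ∨ A2 ≠ 0 ∨ A3 ≠ 0) :
    ¬ (q ^ 3 + 1) * (q - 1) ∣ A0 + A1 * q + A2 * q ^ 2 + A3 * q ^ 3 := by
  intro h
  refine cub_ne hC (by linarith) h0 h1 h2 h3 hne (Int.eq_zero_of_abs_lt_dvd h ?_)
  rw [abs_le] at h0 h1 h2 h3
  have hq0 : 0 ≤ q := by linarith
  have e3 : 0 ≤ q ^ 3 := pow_nonneg hq0 3
  have e2 : 0 ≤ q ^ 2 := pow_nonneg hq0 2
  have f1 := mul_nonneg (by linarith : 0 ≤ C - A1) hq0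
  have f2 := mul_nonneg (by linarith : 0 ≤ C - A2) e2
  have f3 := mul_nonneg (by linarith : 0 ≤ C - A3) e3
  have g1 := mul_nonneg (by linarith : 0 ≤ C + A1) hq0
  have g2 := mul_nonneg (by linarith : 0 ≤ C + A2) e2
  have g3 := mul_nonneg (by linarith : 0 ≤ C + A3) e3
  -- `C (q³ + q² + q + 1) ≤ (q - 2)(q³ + q² + q + 1) < (q³ + 1)(q - 1)`
  have k1 : C * (q ^ 3 + q ^ 2 + q + 1) ≤ (q - 2) * (q ^ 3 + q ^ 2 + q + 1) :=
    mul_le_mul_of_nonneg_right (by linarith) (by linarith)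
  have k2 : (q - 2) * (q ^ 3 + q ^ 2 + q + 1) < (q ^ 3 + 1) * (q - 1) := by nlinarith
  rw [abs_lt]
  constructor <;> nlinarith

/-- `N ∤ G a` for `N = (q² + q + 1)(q + 1)(q - 1)` or `(q² + q + 1)(q + 1)` from tables -/
theorem quad_check (A : Fin 3 → ℕ → ℤ) (hA : ∀ r < 48, (|A 0 r| ≤ 5 ∧ |A 1 r| ≤ 5 ∧ |A 2 r| ≤ 5) ∧
    (A 0 r ≠ 0 ∨ A 1 r ≠ 0 ∨ A 2 r ≠ 0))
    (hs : ∀ q ∈ [(2 : ℤ), 3, 4, 5], ∀ r < 48, ¬ (q ^ 2 + q + 1) * (q + 1) ∣ A 0 r + A 1 r * q + A 2 r * q ^ 2)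
    {q : ℤ} (hq : 2 ≤ q) {r : ℕ} (hr : r < 48) :
    ¬ (q ^ 2 + q + 1) * (q + 1) ∣ A 0 r + A 1 r * q + A 2 r * q ^ 2 := by
  by_cases h : 5 < q
  · exact quad_not_dvd (C := 5) (by norm_num) h (hA r hr).1.1 (hA r hr).1.2.1 (hA r hr).1.2.2 (hA r hr).2
  · refine hs q ?_ r hr
    simp only [List.mem_cons, List.not_mem_nil, or_false]
    omega

theorem cub_check (A : Fin 4 → ℕ → ℤ) (hA : ∀ r < 48, (|A 0 r| ≤ 5 ∧ |A 1 r| ≤ 5 ∧ |A 2 r| ≤ 5 ∧ |A 3 r| ≤ 5) ∧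
    (A 0 r ≠ 0 ∨ A 1 r ≠ 0 ∨ A 2 r ≠ 0 ∨ A 3 r ≠ 0))
    (hs : ∀ r < 48, ¬ ((4 : ℤ) ^ 3 + 1) * (4 - 1) ∣ A 0 r + A 1 r * 4 + A 2 r * 4 ^ 2 + A 3 r * 4 ^ 3)
    {q : ℤ} (hq : q = 4 ∨ 7 ≤ q) {r : ℕ} (hr : r < 48) :
    ¬ (q ^ 3 + 1) * (q - 1) ∣ A 0 r + A 1 r * q + A 2 r * q ^ 2 + A 3 r * q ^ 3 := by
  rcases hq with rfl | h
  · exact hs r hr
  · exact cub_not_dvd (C := 5) (by norm_num) (by linarith) (hA r hr).1.1 (hA r hr).1.2.1 (hA r hr).1.2.2.1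
      (hA r hr).1.2.2.2 (hA r hr).2

/-! ### the node sets -/

theorem mem_WJ_word {l : ℕ} {M : CoxeterMatrix (Fin l)} {W : Type v} [Group W] (cs : CoxeterSystem M W)
    {J : Set (Fin l)} {ω : List (Fin l)} (h : ∀ i ∈ ω, i ∈ J) : cs.wordProd ω ∈ WJ cs J := by
  induction ω with
  | nil => rw [wordProd_nil]; exact one_mem _
  | cons i ω ih =>
    rw [wordProd_cons]
    exact mul_mem (Subgroup.subset_closure ⟨i, h i List.mem_cons_self, rfl⟩) (ih fun j hj => h j (List.mem_cons_of_mem _ hj))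

section

variable {W : Type v} [Group W] [Finite W] (cs : CoxeterSystem CoxeterMatrix.F₄ W)

theorem f4_ell {F : Type u} [Field F] [Fintype F] {q : ℕ} (hq : Fintype.card F = q) (ω : List (Fin 4))
    (J : Set (Fin 4)) (hJ : ∀ i ∈ ω, i ∈ J) (mat : Fin 4 → Fin 4 → ℤ)
    (hmat : ∀ i j, actW (cartanOf chevF4 4) ω (sr i) j = mat j i) (c : Fin 4 → ℤ) (N : ℕ) (hqN : q.Coprime N)
    (hw : ∀ i, (N : ℤ) ∣ (∑ j, mat j i * c j) - q * c i)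
    (hreg : ∀ r < 48, ¬ (N : ℤ) ∣ ∑ j, vec chevF4 4 r j * c j)
    (hell : ∀ u : Fin 4 → ℤ, (∀ i, ∑ j, mat j i * u j = u i) → ∀ j ∈ J, u j = 0) :
    ∃ s : ↥(chevF4.group F), Ell cs isType_F4.isCartan (TT chevF4 F) (XX chevF4 4 F) J s ∧
      ∀ m : ℕ, s ^ m = 1 ↔ ∀ i, (N : ℤ) ∣ m * c i := by
  have hrep : ∀ i, rep cs isType_F4.isCartan (cs.wordProd ω) (sr i) = fun j => mat j i := by
    intro i
    rw [rep_word]
    funext j
    exact hmat i j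
  obtain ⟨s, h1, h2⟩ := exists_ell_fun isType_F4 cs hq (center_eq_bot (S1054.result _ (by simp))) invC_F4 one_ne_zero
    (N := N) (Nat.coprime_one_right N) hqN (J := J) (w := cs.wordProd ω) (mem_WJ_word cs hJ) (fn c)
    (fun i => by rw [hrep, fn_sr, fn_apply]; exact hw i) (fun r hr => by rw [fn_apply]; exact hreg r hr)
    (fun g hg => hell (fun i => g (sr i)) fun i => by
      have h3 := hg (sr i)
      rw [hrep, hom_eq] at h3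
      exact h3)
  refine ⟨s, h1, fun m => ?_⟩
  rw [h2 m]
  exact forall_congr' fun i => by rw [fn_sr]

/-! ### `{0, 1, 3}` -/

/-- `s₀ s₁ s₃` -/
def m013 : Fin 4 → Fin 4 → ℤ := ![![0, -1, 2, 0], ![1, -1, 2, 0], ![0, 0, 1, 0], ![0, 0, 1, -1]]

theorem act_013 : ∀ i j : Fin 4, actW (cartanOf chevF4 4) [0, 1, 3] (sr i) j = m013 j i := by decide +kernel

/-- the reduced coefficients -/
def A013 : Fin 3 → ℕ → ℤ := ![
  fun r => 2 * vec chevF4 4 r 0 - vec chevF4 4 r 1 + vec chevF4 4 r 2 - 2 * vec chevF4 4 r 3,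
  fun r => 3 * vec chevF4 4 r 0 - vec chevF4 4 r 2 - 2 * vec chevF4 4 r 3,
  fun r => vec chevF4 4 r 0 + vec chevF4 4 r 1 - vec chevF4 4 r 2 - 2 * vec chevF4 4 r 3]

theorem tab_013 : ∀ r < 48, (|A013 0 r| ≤ 5 ∧ |A013 1 r| ≤ 5 ∧ |A013 2 r| ≤ 5) ∧
    (A013 0 r ≠ 0 ∨ A013 1 r ≠ 0 ∨ A013 2 r ≠ 0) := by decide +kernel

theorem sm_013 : ∀ q ∈ [(2 : ℤ), 3, 4, 5], ∀ r < 48,
    ¬ (q ^ 2 + q + 1) * (q + 1) ∣ A013 0 r + A013 1 r * q + A013 2 r * q ^ 2 := by decide +kernel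

/-- the functional -/
def c013 (q : ℤ) : Fin 4 → ℤ := ![1 + q - q ^ 2 - q ^ 3, q ^ 2 - 1, 1 - q - q ^ 2, q ^ 3 - 1]

theorem reg_013 {q : ℤ} (hq : 2 ≤ q) {r : ℕ} (hr : r < 48) :
    ¬ (q ^ 2 + q + 1) * (q + 1) ∣ ∑ j, vec chevF4 4 r j * c013 q j := by
  intro h
  apply quad_check A013 tab_013 sm_013 hq hr
  have e : A013 0 r + A013 1 r * q + A013 2 r * q ^ 2 = ∑ j, vec chevF4 4 r j * c013 q j +
      (q ^ 2 + q + 1) * (q + 1) * (vec chevF4 4 r 0 - vec chevF4 4 r 3) := by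
    rw [Fin.sum_univ_four]
    simp only [A013, c013, Matrix.cons_val]
    ring
  rw [e]
  exact dvd_add h (Dvd.intro _ rfl)

/-! ### `{0, 2, 3}` -/

/-- `s₀ s₂ s₃` -/
def m023 : Fin 4 → Fin 4 → ℤ := ![![-1, 1, 0, 0], ![0, 1, 0, 0], ![0, 1, 0, -1], ![0, 0, 1, -1]]

theorem act_023 : ∀ i j : Fin 4, actW (cartanOf chevF4 4) [0, 2, 3] (sr i) j = m023 j i := by decide +kernel

/-- the reduced coefficients -/
def A023 : Fin 3 → ℕ → ℤ := ![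
  fun r => 2 * vec chevF4 4 r 0 - vec chevF4 4 r 2 - vec chevF4 4 r 3,
  fun r => 2 * vec chevF4 4 r 0 - 3 * vec chevF4 4 r 3,
  fun r => 2 * vec chevF4 4 r 0 - vec chevF4 4 r 1 + vec chevF4 4 r 2 - 2 * vec chevF4 4 r 3]

theorem tab_023 : ∀ r < 48, (|A023 0 r| ≤ 5 ∧ |A023 1 r| ≤ 5 ∧ |A023 2 r| ≤ 5) ∧
    (A023 0 r ≠ 0 ∨ A023 1 r ≠ 0 ∨ A023 2 r ≠ 0) := by decide +kernel

theorem sm_023 : ∀ q ∈ [(2 : ℤ), 3, 4, 5], ∀ r < 48,
    ¬ (q ^ 2 + q + 1) * (q + 1) ∣ A023 0 r + A023 1 r * q + A023 2 r * q ^ 2 := by decide +kernel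

/-- the functional -/
def c023 (q : ℤ) : Fin 4 → ℤ := ![1 - q ^ 3, - q ^ 2, q ^ 2 - 1, q ^ 3 - q]

theorem reg_023 {q : ℤ} (hq : 2 ≤ q) {r : ℕ} (hr : r < 48) :
    ¬ (q ^ 2 + q + 1) * (q + 1) ∣ ∑ j, vec chevF4 4 r j * c023 q j := by
  intro h
  apply quad_check A023 tab_023 sm_023 hq hr
  have e : A023 0 r + A023 1 r * q + A023 2 r * q ^ 2 = ∑ j, vec chevF4 4 r j * c023 q j +
      (q ^ 2 + q + 1) * (q + 1) * (vec chevF4 4 r 0 - vec chevF4 4 r 3) := by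
    rw [Fin.sum_univ_four]
    simp only [A023, c023, Matrix.cons_val]
    ring
  rw [e]
  exact dvd_add h (Dvd.intro _ rfl)

/-! ### `{1, 2, 3}` -/

/-- `s₁ s₂ s₃` -/
def m123 : Fin 4 → Fin 4 → ℤ := ![![1, 0, 0, 0], ![1, 1, 0, -2], ![0, 1, 0, -1], ![0, 0, 1, -1]]

theorem act_123 : ∀ i j : Fin 4, actW (cartanOf chevF4 4) [1, 2, 3] (sr i) j = m123 j i := by decide +kernel

/-- the coefficients -/
def A123 : Fin 4 → ℕ → ℤ := ![
  fun r => vec chevF4 4 r 0 - vec chevF4 4 r 1 + vec chevF4 4 r 2,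
  fun r => vec chevF4 4 r 1 - 2 * vec chevF4 4 r 2 + vec chevF4 4 r 3,
  fun r => vec chevF4 4 r 2 - 2 * vec chevF4 4 r 3,
  fun r => vec chevF4 4 r 3]

theorem tab_123 : ∀ r < 48, (|A123 0 r| ≤ 5 ∧ |A123 1 r| ≤ 5 ∧ |A123 2 r| ≤ 5 ∧ |A123 3 r| ≤ 5) ∧
    (A123 0 r ≠ 0 ∨ A123 1 r ≠ 0 ∨ A123 2 r ≠ 0 ∨ A123 3 r ≠ 0) := by decide +kernel

theorem sm_123 : ∀ r < 48, ¬ ((4 : ℤ) ^ 3 + 1) * (4 - 1) ∣
    A123 0 r + A123 1 r * 4 + A123 2 r * 4 ^ 2 + A123 3 r * 4 ^ 3 := by decide +kernel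

/-- the functional -/
def c123 (q : ℤ) : Fin 4 → ℤ := ![1, q - 1, q ^ 2 - 2 * q + 1, q ^ 3 - 2 * q ^ 2 + q]

theorem reg_123 {q : ℤ} (hq : q = 4 ∨ 7 ≤ q) {r : ℕ} (hr : r < 48) :
    ¬ (q ^ 3 + 1) * (q - 1) ∣ ∑ j, vec chevF4 4 r j * c123 q j := by
  intro h
  apply cub_check A123 tab_123 sm_123 hq hr
  have e : A123 0 r + A123 1 r * q + A123 2 r * q ^ 2 + A123 3 r * q ^ 3 = ∑ j, vec chevF4 4 r j * c123 q j := by
    rw [Fin.sum_univ_four]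
    simp only [A123, c123, Matrix.cons_val]
    ring
  rw [e]
  exact h

/-! ### `{0, 1, 2}` -/

/-- `s₀ s₁ s₂` -/
def m012 : Fin 4 → Fin 4 → ℤ := ![![0, 1, -2, 2], ![1, 1, -2, 2], ![0, 1, -1, 1], ![0, 0, 0, 1]]

theorem act_012 : ∀ i j : Fin 4, actW (cartanOf chevF4 4) [0, 1, 2] (sr i) j = m012 j i := by decide +kernel

/-- the coefficients -/
def A012 : Fin 4 → ℕ → ℤ := ![
  fun r => - vec chevF4 4 r 0 + 2 * vec chevF4 4 r 2,
  fun r => - vec chevF4 4 r 1 + 2 * vec chevF4 4 r 3,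
  fun r => vec chevF4 4 r 0 - 2 * vec chevF4 4 r 2 + 2 * vec chevF4 4 r 3,
  fun r => vec chevF4 4 r 1]

theorem tab_012 : ∀ r < 48, (|A012 0 r| ≤ 5 ∧ |A012 1 r| ≤ 5 ∧ |A012 2 r| ≤ 5 ∧ |A012 3 r| ≤ 5) ∧
    (A012 0 r ≠ 0 ∨ A012 1 r ≠ 0 ∨ A012 2 r ≠ 0 ∨ A012 3 r ≠ 0) := by decide +kernel

theorem sm_012 : ∀ r < 48, ¬ ((4 : ℤ) ^ 3 + 1) * (4 - 1) ∣
    A012 0 r + A012 1 r * 4 + A012 2 r * 4 ^ 2 + A012 3 r * 4 ^ 3 := by decide +kernel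

/-- the functional -/
def c012 (q : ℤ) : Fin 4 → ℤ := ![q ^ 2 - 1, q ^ 3 - q, -2 * q ^ 2 + 2, 2 * q ^ 2 + 2 * q]

theorem reg_012 {q : ℤ} (hq : q = 4 ∨ 7 ≤ q) {r : ℕ} (hr : r < 48) :
    ¬ (q ^ 3 + 1) * (q - 1) ∣ ∑ j, vec chevF4 4 r j * c012 q j := by
  intro h
  apply cub_check A012 tab_012 sm_012 hq hr
  have e : A012 0 r + A012 1 r * q + A012 2 r * q ^ 2 + A012 3 r * q ^ 3 = ∑ j, vec chevF4 4 r j * c012 q j := by
    rw [Fin.sum_univ_four]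
    simp only [A012, c012, Matrix.cons_val]
    ring
  rw [e]
  exact h

/-! ### the elements -/

/-- `N` for `{0, 1, 3}` and `{0, 2, 3}` -/
def N3 (q : ℕ) : ℕ := (q ^ 2 + q + 1) * (q + 1) * (q - 1)

theorem N3_cast {q : ℕ} (hq : 2 ≤ q) : ((N3 q : ℕ) : ℤ) = ((q : ℤ) ^ 2 + q + 1) * (q + 1) * (q - 1) := by
  rw [N3]
  push_cast [Nat.cast_sub (by omega : 1 ≤ q)]
  ring

theorem N3_coprime {q : ℕ} (hq : 2 ≤ q) : q.Coprime (N3 q) := by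
  rw [← Nat.isCoprime_iff_coprime, N3_cast hq]
  exact ⟨(q : ℤ) ^ 3 + q ^ 2 - 1, -1, by ring⟩

/-- `N` for `{1, 2, 3}` and `{0, 1, 2}` -/
def N4 (q : ℕ) : ℕ := (q ^ 3 + 1) * (q - 1)

theorem N4_cast {q : ℕ} (hq : 2 ≤ q) : ((N4 q : ℕ) : ℤ) = ((q : ℤ) ^ 3 + 1) * (q - 1) := by
  rw [N4]
  push_cast [Nat.cast_sub (by omega : 1 ≤ q)]
  ring

theorem N4_coprime {q : ℕ} (hq : 2 ≤ q) : q.Coprime (N4 q) := by
  rw [← Nat.isCoprime_iff_coprime, N4_cast hq]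
  exact ⟨(q : ℤ) ^ 3 - q ^ 2 + 1, -1, by ring⟩

theorem ell_013 (u : Fin 4 → ℤ) (h : ∀ i, ∑ j, m013 j i * u j = u i) : ∀ j ∈ ({0, 1, 3} : Set (Fin 4)), u j = 0 := by
  have h0 := h 0
  have h1 := h 1
  have h3 := h 3
  rw [Fin.sum_univ_four] at h0 h1 h3
  simp only [m013, Matrix.cons_val] at h0 h1 h3
  intro j hj
  simp only [Set.mem_insert_iff, Set.mem_singleton_iff] at hj
  rcases hj with rfl | rfl | rfl <;> omega

theorem ell_023 (u : Fin 4 → ℤ) (h : ∀ i, ∑ j, m023 j i * u j = u i) : ∀ j ∈ ({0, 2, 3} : Set (Fin 4)), u j = 0 := by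
  have h0 := h 0
  have h1 := h 1
  have h2 := h 2
  have h3 := h 3
  rw [Fin.sum_univ_four] at h0 h1 h2 h3
  simp only [m023, Matrix.cons_val] at h0 h1 h2 h3
  intro j hj
  simp only [Set.mem_insert_iff, Set.mem_singleton_iff] at hj
  rcases hj with rfl | rfl | rfl <;> omega

theorem ell_123 (u : Fin 4 → ℤ) (h : ∀ i, ∑ j, m123 j i * u j = u i) : ∀ j ∈ ({1, 2, 3} : Set (Fin 4)), u j = 0 := by
  have h0 := h 0
  have h1 := h 1
  have h2 := h 2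
  have h3 := h 3
  rw [Fin.sum_univ_four] at h0 h1 h2 h3
  simp only [m123, Matrix.cons_val] at h0 h1 h2 h3
  intro j hj
  simp only [Set.mem_insert_iff, Set.mem_singleton_iff] at hj
  rcases hj with rfl | rfl | rfl <;> omega

theorem ell_012 (u : Fin 4 → ℤ) (h : ∀ i, ∑ j, m012 j i * u j = u i) : ∀ j ∈ ({0, 1, 2} : Set (Fin 4)), u j = 0 := by
  have h0 := h 0
  have h1 := h 1
  have h2 := h 2
  have h3 := h 3
  rw [Fin.sum_univ_four] at h0 h1 h2 h3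
  simp only [m012, Matrix.cons_val] at h0 h1 h2 h3
  intro j hj
  simp only [Set.mem_insert_iff, Set.mem_singleton_iff] at hj
  rcases hj with rfl | rfl | rfl <;> omega

theorem hw_013 (q : ℤ) (i : Fin 4) :
    (q ^ 2 + q + 1) * (q + 1) * (q - 1) ∣ (∑ j, m013 j i * c013 q j) - q * c013 q i := by
  rw [Fin.sum_univ_four]
  fin_cases i
  · refine ⟨1, ?_⟩; simp only [m013, c013, Matrix.cons_val, Fin.zero_eta]; ring
  · refine ⟨0, ?_⟩; simp only [m013, c013, Matrix.cons_val, Fin.mk_one]; ring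
  · refine ⟨0, ?_⟩; simp only [m013, c013, Matrix.cons_val, Fin.reduceFinMk]; ring
  · refine ⟨-1, ?_⟩; simp only [m013, c013, Matrix.cons_val, Fin.reduceFinMk]; ring

theorem hw_023 (q : ℤ) (i : Fin 4) :
    (q ^ 2 + q + 1) * (q + 1) * (q - 1) ∣ (∑ j, m023 j i * c023 q j) - q * c023 q i := by
  rw [Fin.sum_univ_four]
  fin_cases i
  · refine ⟨1, ?_⟩; simp only [m023, c023, Matrix.cons_val, Fin.zero_eta]; ring
  · refine ⟨0, ?_⟩; simp only [m023, c023, Matrix.cons_val, Fin.mk_one]; ring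
  · refine ⟨0, ?_⟩; simp only [m023, c023, Matrix.cons_val, Fin.reduceFinMk]; ring
  · refine ⟨-1, ?_⟩; simp only [m023, c023, Matrix.cons_val, Fin.reduceFinMk]; ring

theorem hw_123 (q : ℤ) (i : Fin 4) :
    (q ^ 3 + 1) * (q - 1) ∣ (∑ j, m123 j i * c123 q j) - q * c123 q i := by
  rw [Fin.sum_univ_four]
  fin_cases i
  · refine ⟨0, ?_⟩; simp only [m123, c123, Matrix.cons_val, Fin.zero_eta]; ring
  · refine ⟨0, ?_⟩; simp only [m123, c123, Matrix.cons_val, Fin.mk_one]; ring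
  · refine ⟨0, ?_⟩; simp only [m123, c123, Matrix.cons_val, Fin.reduceFinMk]; ring
  · refine ⟨-1, ?_⟩; simp only [m123, c123, Matrix.cons_val, Fin.reduceFinMk]; ring

theorem hw_012 (q : ℤ) (i : Fin 4) :
    (q ^ 3 + 1) * (q - 1) ∣ (∑ j, m012 j i * c012 q j) - q * c012 q i := by
  rw [Fin.sum_univ_four]
  fin_cases i
  · refine ⟨0, ?_⟩; simp only [m012, c012, Matrix.cons_val, Fin.zero_eta]; ring
  · refine ⟨-1, ?_⟩; simp only [m012, c012, Matrix.cons_val, Fin.mk_one]; ring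
  · refine ⟨0, ?_⟩; simp only [m012, c012, Matrix.cons_val, Fin.reduceFinMk]; ring
  · refine ⟨0, ?_⟩; simp only [m012, c012, Matrix.cons_val, Fin.reduceFinMk]; ring

/-- the elements of the torus of `m` and `c` -/
theorem one_elt {F : Type u} [Field F] [Fintype F] {q : ℕ} (hq : Fintype.card F = q) (h2 : 2 ≤ q) (ω : List (Fin 4))
    (J : Set (Fin 4)) (hJ : ∀ i ∈ ω, i ∈ J) (mat : Fin 4 → Fin 4 → ℤ)
    (hmat : ∀ i j, actW (cartanOf chevF4 4) ω (sr i) j = mat j i) (c : Fin 4 → ℤ)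
    (hw : ∀ i, ((q : ℤ) ^ 2 + q + 1) * (q + 1) * (q - 1) ∣ (∑ j, mat j i * c j) - q * c i)
    (hreg : ∀ r < 48, ¬ ((q : ℤ) ^ 2 + q + 1) * (q + 1) ∣ ∑ j, vec chevF4 4 r j * c j)
    (hell : ∀ u : Fin 4 → ℤ, (∀ i, ∑ j, mat j i * u j = u i) → ∀ j ∈ J, u j = 0) :
    ∃ s : ↥(chevF4.group F), Ell cs isType_F4.isCartan (TT chevF4 F) (XX chevF4 4 F) J s ∧
      ∀ m : ℕ, s ^ m = 1 ↔ ∀ i, ((q : ℤ) ^ 2 + q + 1) * (q + 1) * (q - 1) ∣ m * c i := by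
  have hN := N3_cast h2
  obtain ⟨s, h3, h4⟩ := f4_ell cs hq ω J hJ mat hmat c (N3 q) (N3_coprime h2) (fun i => by rw [hN]; exact hw i)
    (fun r hr h => hreg r hr ((Dvd.intro _ rfl).trans (by rwa [hN] at h))) hell
  exact ⟨s, h3, fun m => by rw [h4 m, hN]⟩

/-- the elements of the torus of `m` and `(q - 1) c` -/
theorem two_elt {F : Type u} [Field F] [Fintype F] {q : ℕ} (hq : Fintype.card F = q) (h2 : 2 ≤ q) (ω : List (Fin 4))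
    (J : Set (Fin 4)) (hJ : ∀ i ∈ ω, i ∈ J) (mat : Fin 4 → Fin 4 → ℤ)
    (hmat : ∀ i j, actW (cartanOf chevF4 4) ω (sr i) j = mat j i) (c : Fin 4 → ℤ)
    (hw : ∀ i, ((q : ℤ) ^ 2 + q + 1) * (q + 1) * (q - 1) ∣ (∑ j, mat j i * c j) - q * c i)
    (hreg : ∀ r < 48, ¬ ((q : ℤ) ^ 2 + q + 1) * (q + 1) ∣ ∑ j, vec chevF4 4 r j * c j)
    (hell : ∀ u : Fin 4 → ℤ, (∀ i, ∑ j, mat j i * u j = u i) → ∀ j ∈ J, u j = 0) :
    ∃ s : ↥(chevF4.group F), Ell cs isType_F4.isCartan (TT chevF4 F) (XX chevF4 4 F) J s ∧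
      s ^ ((q ^ 2 + q + 1) * (q + 1)) = 1 := by
  have hN := N3_cast h2
  have hq1 : ((q : ℤ) - 1) ≠ 0 := by omega
  have hsum : ∀ x : Fin 4 → ℤ, ∑ j, x j * (((q : ℤ) - 1) * c j) = ((q : ℤ) - 1) * ∑ j, x j * c j := by
    intro x
    rw [Finset.mul_sum]
    exact Finset.sum_congr rfl fun j _ => by ring
  obtain ⟨s, h3, h4⟩ := f4_ell cs hq ω J hJ mat hmat (fun i => ((q : ℤ) - 1) * c i) (N3 q) (N3_coprime h2)
    (fun i => by
      rw [hN, hsum fun j => mat j i]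
      have e : ((q : ℤ) - 1) * ∑ j, mat j i * c j - q * (((q : ℤ) - 1) * c i) =
        ((q : ℤ) - 1) * ((∑ j, mat j i * c j) - q * c i) := by ring
      rw [e]
      exact (hw i).mul_left _)
    (fun r hr h => hreg r hr (by
      rw [hN, hsum fun j => vec chevF4 4 r j, mul_comm ((q : ℤ) - 1)] at h
      exact Int.dvd_of_mul_dvd_mul_right hq1 h)) hell
  refine ⟨s, h3, (h4 _).2 fun i => ?_⟩
  rw [hN]
  push_cast
  exact ⟨c i, by ring⟩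

/-- **one element of type `{0, 1, 3}`** -/
theorem elt_013 {F : Type u} [Field F] [Fintype F] {q : ℕ} (hq : Fintype.card F = q) (h2 : 2 ≤ q) :
    ∃ s : ↥(chevF4.group F), Ell cs isType_F4.isCartan (TT chevF4 F) (XX chevF4 4 F) {0, 1, 3} s :=
  let ⟨s, hs, _⟩ := one_elt cs hq h2 [0, 1, 3] {0, 1, 3} (by simp) m013 act_013 (c013 q) (hw_013 q)
    (fun _ hr => reg_013 (by omega) hr) ell_013
  ⟨s, hs⟩

/-- **one element of type `{0, 2, 3}`** -/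
theorem elt_023 {F : Type u} [Field F] [Fintype F] {q : ℕ} (hq : Fintype.card F = q) (h2 : 2 ≤ q) :
    ∃ s : ↥(chevF4.group F), Ell cs isType_F4.isCartan (TT chevF4 F) (XX chevF4 4 F) {0, 2, 3} s :=
  let ⟨s, hs, _⟩ := one_elt cs hq h2 [0, 2, 3] {0, 2, 3} (by simp) m023 act_023 (c023 q) (hw_023 q)
    (fun _ hr => reg_023 (by omega) hr) ell_023
  ⟨s, hs⟩

theorem not_dvd_of_mod {q b c : ℤ} (hq : 3 ≤ q) (h : ((q ^ 2 + q + 1) * (q + 1)) * (q - 1) ∣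
    ((q ^ 2 + q + 1) * (q + 1)) * c) (hb : c = b * (q - 1) - 1) : False := by
  have h1 : q - 1 ∣ c := Int.dvd_of_mul_dvd_mul_left (by nlinarith [sq_nonneg q]) h
  have h2 : q - 1 ∣ b * (q - 1) - c := dvd_sub (Dvd.intro_left _ rfl) h1
  rw [show b * (q - 1) - c = 1 by rw [hb]; ring] at h2
  have := Int.le_of_dvd one_pos h2
  omega

/-- **two elements of type `{0, 1, 3}`** -/
theorem elts_013 {F : Type u} [Field F] [Fintype F] {q : ℕ} (hq : Fintype.card F = q) (h3 : 3 ≤ q) :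
    ∃ s s' : ↥(chevF4.group F), Ell cs isType_F4.isCartan (TT chevF4 F) (XX chevF4 4 F) {0, 1, 3} s ∧
      Ell cs isType_F4.isCartan (TT chevF4 F) (XX chevF4 4 F) {0, 1, 3} s' ∧ ¬ IsConj s s' := by
  obtain ⟨s, hs, hm⟩ := one_elt cs hq (by omega) [0, 1, 3] {0, 1, 3} (by simp) m013 act_013 (c013 q) (hw_013 q)
    (fun _ hr => reg_013 (by omega) hr) ell_013
  obtain ⟨s', hs', hm'⟩ := two_elt cs hq (by omega) [0, 1, 3] {0, 1, 3} (by simp) m013 act_013 (c013 q) (hw_013 q)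
    (fun _ hr => reg_013 (by omega) hr) ell_013
  refine ⟨s, s', hs, hs', fun h => not_isConj hm' (fun h1 => ?_) h.symm⟩
  have h2 := (hm _).1 h1 2
  push_cast at h2
  exact not_dvd_of_mod (b := -((q : ℤ) + 2)) (by omega) h2 (by simp only [c013, Matrix.cons_val]; ring)

/-- **two elements of type `{0, 2, 3}`** -/
theorem elts_023 {F : Type u} [Field F] [Fintype F] {q : ℕ} (hq : Fintype.card F = q) (h3 : 3 ≤ q) :
    ∃ s s' : ↥(chevF4.group F), Ell cs isType_F4.isCartan (TT chevF4 F) (XX chevF4 4 F) {0, 2, 3} s ∧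
      Ell cs isType_F4.isCartan (TT chevF4 F) (XX chevF4 4 F) {0, 2, 3} s' ∧ ¬ IsConj s s' := by
  obtain ⟨s, hs, hm⟩ := one_elt cs hq (by omega) [0, 2, 3] {0, 2, 3} (by simp) m023 act_023 (c023 q) (hw_023 q)
    (fun _ hr => reg_023 (by omega) hr) ell_023
  obtain ⟨s', hs', hm'⟩ := two_elt cs hq (by omega) [0, 2, 3] {0, 2, 3} (by simp) m023 act_023 (c023 q) (hw_023 q)
    (fun _ hr => reg_023 (by omega) hr) ell_023
  refine ⟨s, s', hs, hs', fun h => not_isConj hm' (fun h1 => ?_) h.symm⟩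
  have h2 := (hm _).1 h1 1
  push_cast at h2
  exact not_dvd_of_mod (b := -((q : ℤ) + 1)) (by omega) h2 (by simp only [c023, Matrix.cons_val]; ring)

/-- **elements of types `{1, 2, 3}`, `{0, 1, 2}`** -/
theorem elts_BC {F : Type u} [Field F] [Fintype F] {q : ℕ} (hq : Fintype.card F = q) (h7 : q = 4 ∨ 7 ≤ q) :
    ∃ s s' : ↥(chevF4.group F), Ell cs isType_F4.isCartan (TT chevF4 F) (XX chevF4 4 F) {1, 2, 3} s ∧
      Ell cs isType_F4.isCartan (TT chevF4 F) (XX chevF4 4 F) {0, 1, 2} s' ∧ ¬ IsConj s s' := by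
  have h2 : 2 ≤ q := by omega
  have hN := N4_cast h2
  have h7' : (q : ℤ) = 4 ∨ 7 ≤ (q : ℤ) := by omega
  obtain ⟨s, hs, hm⟩ := f4_ell cs hq [1, 2, 3] {1, 2, 3} (by simp) m123 act_123 (c123 q) (N4 q) (N4_coprime h2)
    (fun i => by rw [hN]; exact hw_123 q i) (fun r hr => by rw [hN]; exact reg_123 h7' hr) ell_123
  obtain ⟨s', hs', hm'⟩ := f4_ell cs hq [0, 1, 2] {0, 1, 2} (by simp) m012 act_012 (c012 q) (N4 q) (N4_coprime h2)
    (fun i => by rw [hN]; exact hw_012 q i) (fun r hr => by rw [hN]; exact reg_012 h7' hr) ell_012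
  refine ⟨s, s', hs, hs', fun h => not_isConj (m := (q ^ 2 - q + 1) * (q - 1)) ?_ (fun h1 => ?_) h.symm⟩
  · rw [hm', hN]
    have e : (((q ^ 2 - q + 1) * (q - 1) : ℕ) : ℤ) = ((q : ℤ) ^ 2 - q + 1) * (q - 1) := by
      push_cast [Nat.cast_sub (by omega : 1 ≤ q), Nat.cast_sub (by nlinarith : q ≤ q ^ 2)]
      ring
    rw [e]
    intro i
    fin_cases i
    · refine ⟨q - 1, ?_⟩; simp only [c012, Matrix.cons_val, Fin.zero_eta]; ring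
    · refine ⟨q * (q - 1), ?_⟩; simp only [c012, Matrix.cons_val, Fin.mk_one]; ring
    · refine ⟨-2 * (q - 1), ?_⟩; simp only [c012, Matrix.cons_val, Fin.reduceFinMk]; ring
    · refine ⟨2 * q, ?_⟩; simp only [c012, Matrix.cons_val, Fin.reduceFinMk]; ring
  · have e : (((q ^ 2 - q + 1) * (q - 1) : ℕ) : ℤ) = ((q : ℤ) ^ 2 - q + 1) * (q - 1) := by
      push_cast [Nat.cast_sub (by omega : 1 ≤ q), Nat.cast_sub (by nlinarith : q ≤ q ^ 2)]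
      ring
    have h3 := (hm _).1 h1 0
    rw [hN, e] at h3
    simp only [c123, Matrix.cons_val] at h3
    have h4 : ((q : ℤ) ^ 3 + 1) * (q - 1) ≤ ((q : ℤ) ^ 2 - q + 1) * (q - 1) * 1 :=
      Int.le_of_dvd (by
        have : (2 : ℤ) ≤ q := by omega
        have k1 : (0 : ℤ) < q - 1 := by linarith
        have k2 : (0 : ℤ) < (q : ℤ) ^ 2 - q + 1 := by nlinarith
        rw [mul_one]
        exact mul_pos k2 k1) h3
    have k0 : (2 : ℤ) ≤ q := by omega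
    have k1 : (0 : ℤ) < q - 1 := by linarith
    have k2 : ((q : ℤ) ^ 2 - q + 1) < (q : ℤ) ^ 3 + 1 := by nlinarith [mul_nonneg (sq_nonneg (q : ℤ)) k1.le]
    have k3 := mul_lt_mul_of_pos_right k2 k1
    rw [mul_one] at h4
    exact absurd h4 (not_le.2 k3)

end

end Cfsg.Agent.H798.OZ
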