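import Cfsg.Agent.H381.Car.RadTow

/-!
# Regular elements of the torus in parabolic subgroups (helper798, S4842)

* `exists_of_conj` : `t ∈ T` regular, `y t y⁻¹ ∈ P_K`: `y ∈ P_K k` with `k` a representative of an element of `W`;
* `exists_of_conjL`, `mem_WJ_of_repL`, ... : the same in the limit.
-/

set_option autoImplicit false
set_option linter.unusedSectionVars false

namespace Cfsg.Agent.H798.OZ

open CoxeterSystem Subgroup Cfsg.Agent.ChevalleyStructure.CoxeterGeom Cfsg.Agent.Tits.Roots Cfsg.Agent.Tits.Core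
  Cfsg.Agent.Tits.Exchange Cfsg.Agent.Nodes.Reps Cfsg.Agent.Nodes.BNOf Cfsg.Agent.Nodes.StabComb
  Cfsg.Agent.Nodes.Bruhat Cfsg.Agent.Nodes.OppDec Cfsg.Agent.Nodes.LeviDec Cfsg.Agent.Nodes.NormalForm
open Cfsg.Agent.BpExc.Tow

section RGD

variable {I W Y : Type*} [Fintype I] [DecidableEq I] [Group W] [Group Y] {M : CoxeterMatrix I}
  {cs : CoxeterSystem M W} {A : I → I → ℤ} {h : IsCartan M A} {p : ℕ} {T : Subgroup Y} {n : I → Y}
  {X : (I → ℤ) → Subgroup Y}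

/-- a positive root made negative by a minimal representative -/
theorem neg_mem_NotJ {K : Set I} {w : W} (hmin : ∀ i ∈ K, 0 ≤ rep cs h w⁻¹ (sr i)) {x : I → ℤ}
    (hx : x ∈ NW cs h w) : rep cs h w x ∈ NotNJ cs h K := by
  have hx0 : x ≠ 0 := hx.1.ne_zero
  have hneg : rep cs h w x ≤ 0 := hx.2.2
  refine ⟨(hx.1.act w).neg, neg_nonneg.2 hneg, ?_⟩
  by_contra hcon
  push Not at hcon
  set b : I → ℤ := -rep cs h w x with hb
  have hb0 : 0 ≤ b := neg_nonneg.2 hneg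
  have hbK : ∀ i, i ∉ K → b i = 0 := fun i hi => le_antisymm (hcon i hi) (hb0 i)
  have h1 : rep cs h w⁻¹ b = ∑ i, b i • rep cs h w⁻¹ (sr i) := by
    have h2 : b = ∑ i, b i • (sr i : I → ℤ) := by
      funext j
      rw [Finset.sum_apply, Finset.sum_eq_single j]
      · rw [Pi.smul_apply, sr_self, smul_eq_mul, mul_one]
      · intro i _ hi
        rw [Pi.smul_apply, sr_ne (Ne.symm hi), smul_zero]
      · intro h; exact absurd (Finset.mem_univ _) h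
    conv_lhs => rw [h2]
    rw [map_sum]
    exact Finset.sum_congr rfl fun i _ => by rw [map_smul]
  have h3 : 0 ≤ rep cs h w⁻¹ b := by
    rw [h1]
    refine Finset.sum_nonneg fun i _ => ?_
    by_cases hi : i ∈ K
    · exact smul_nonneg (hb0 i) (hmin i hi)
    · rw [hbK i hi, zero_smul]
  have h4 : rep cs h w⁻¹ b = -x := by
    rw [hb, map_neg, rep_inv_apply]
  rw [h4] at h3
  exact hx0 (le_antisymm (neg_nonneg.1 h3) hx.2.1)

variable (R : RGD cs h p T n X) [Finite W]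

include R

theorem exists_left_rep {x : Y} (hx : x ∈ GG cs h T X) (J : Set I) :
    ∃ a ∈ PJ cs h T X J, ∃ b ∈ RGD.B cs h T X, ∃ w g, Rp cs R.nsys w g ∧ x = a * g * b ∧
      ∀ i ∈ J, 0 ≤ rep cs h w⁻¹ (sr i) := by
  classical
  have hex : ∃ m : ℕ, ∃ w, cs.length w = m ∧ ∃ a ∈ PJ cs h T X J, ∃ b ∈ RGD.B cs h T X, ∃ g,
      Rp cs R.nsys w g ∧ x = a * g * b := by
    obtain ⟨w, b₁, hb₁, k, hk, b₂, hb₂, e⟩ := (mem_GG R).1 hx
    exact ⟨_, w, rfl, b₁, B_le_PJ hb₁, b₂, hb₂, k, hk, e⟩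
  obtain ⟨w, hw, a, ha, b, hb, g, hg, e⟩ := Nat.find_spec hex
  have hmin := fun m hm => Nat.find_min hex (m := m) hm
  refine ⟨a, ha, b, hb, w, g, hg, e, fun i hi => ?_⟩
  refine nonneg_of_lt cs h w⁻¹ i ?_
  rw [cs.length_inv, ← cs.length_inv (w⁻¹ * cs.simple i), mul_inv_rev, inv_inv, cs.inv_simple]
  have h1 : cs.length w ≤ cs.length (cs.simple i * w) := by
    rw [hw]
    by_contra hcon
    exact hmin _ (not_le.1 hcon) ⟨cs.simple i * w, rfl, a * (n i)⁻¹,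
      mul_mem ha (inv_mem (LJ_le_PJ (n_mem_LJ R hi))), b, hb, n i * g, (rp_simple cs R.nsys i).mul hg, by rw [e]; group⟩
  have h2 := cs.length_simple_mul w i
  omega

/-- **Regular elements in parabolic subgroups.** -/
theorem exists_of_conj {K : Set I} {t y : Y} (ht : t ∈ T)
    (hreg : ∀ a, IsRoot cs h a → 0 ≤ a → ∀ x ∈ X a, t * x = x * t → x = 1) (hy : y ∈ GG cs h T X)
    (h1 : y * t * y⁻¹ ∈ PJ cs h T X K) : ∃ a ∈ PJ cs h T X K, ∃ w k, Rp cs R.nsys w k ∧ y = a * k := by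
  obtain ⟨a, ha, b, hb, w, g, hg, rfl, hmin⟩ := exists_left_rep R hy K
  obtain ⟨s, hs, u, hu, rfl⟩ := R.mem_B.1 hb
  obtain ⟨b', hb', c, hc, rfl⟩ := exists_PW_NW R w hu
  have hk : Rp cs R.nsys w (g * s) := hg.mul_mem_right hs
  have h2 : (g * s) * b' * (g * s)⁻¹ ∈ RGD.Sup X (RGD.Pos cs h) :=
    conj_mem_Sup R hk (S' := RGD.Pos cs h) (fun x hx => hx.1) (fun x hx => ⟨hx.1.act _, hx.2.2⟩) hb'
  set k := g * s with hkd
  set a' := a * (k * b' * k⁻¹) with ha'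
  have ha'P : a' ∈ PJ cs h T X K := mul_mem ha (B_le_PJ (RGD.U_le_B h2))
  have e : a * g * (s * (b' * c)) = a' * k * c := by
    rw [ha', hkd]; group
  rw [e] at h1 ⊢
  have h3 : k * (c * t * c⁻¹) * k⁻¹ ∈ PJ cs h T X K := by
    have h4 : k * (c * t * c⁻¹) * k⁻¹ = a'⁻¹ * (a' * k * c * t * (a' * k * c)⁻¹) * a' := by group
    rw [h4]
    exact mul_mem (mul_mem (inv_mem ha'P) h1) ha'P
  set c₁ := c * (t * c⁻¹ * t⁻¹) with hc₁
  have hc₁N : c₁ ∈ RGD.Sup X (NW cs h w) := by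
    refine mul_mem hc ?_
    exact (mem_normalizer_iff.1 (R.T_le_normalizer (S := NW cs h w) (fun x hx => hx.1) ht) c⁻¹).1 (inv_mem hc)
  have hkt : k * t * k⁻¹ ∈ T := (mem_normalizer_iff.1 hk.mem_normalizer t).1 ht
  have h5 : k * c₁ * k⁻¹ ∈ PJ cs h T X K := by
    have h4 : k * c₁ * k⁻¹ = k * (c * t * c⁻¹) * k⁻¹ * (k * t * k⁻¹)⁻¹ := by rw [hc₁]; group
    rw [h4]
    exact mul_mem h3 (inv_mem (B_le_PJ (RGD.T_le_B hkt)))
  have h6 : k * c₁ * k⁻¹ ∈ VNJ cs h X K :=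
    conj_mem_Sup R hk (S' := NotNJ cs h K) (fun x hx => hx.1) (fun x hx => neg_mem_NotJ hmin hx) hc₁N
  have h7 := eq_one_of_mem_VNJ_of_mem_PJ R h6 h5
  have h8 : c₁ = 1 := by
    have : c₁ = k⁻¹ * (k * c₁ * k⁻¹) * k := by group
    rw [this, h7]; group
  have h9 : t * c = c * t := by
    have h10 : c * t * c⁻¹ * t⁻¹ = 1 := by rw [← h8, hc₁]; group
    have h11 : c * t * c⁻¹ = t := mul_inv_eq_one.1 h10
    calc t * c = c * t * c⁻¹ * c := by rw [h11]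
      _ = c * t := by group
  have h12 : c ∈ RGD.Sup X (RGD.Pos cs h) ⊓ centralizer {t} :=
    ⟨(RGD.Sup_mono (S := NW cs h w) (S' := RGD.Pos cs h) fun x hx => ⟨hx.1, hx.2.1⟩) hc,
      mem_centralizer_singleton_iff.2 h9.symm⟩
  rw [centralizer_U R (Set.singleton_subset_iff.2 ht)] at h12
  have h13 : RGD.Sup (fun x => X x ⊓ centralizer {t}) (RGD.Pos cs h) ≤ ⊥ := by
    refine RGD.Sup_le fun x hx => ?_
    rintro u ⟨hu, huc⟩
    exact mem_bot.2 (hreg x hx.1 hx.2 u hu (mem_centralizer_singleton_iff.1 huc).symm)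
  have h14 : c = 1 := mem_bot.1 (h13 h12)
  exact ⟨a', ha'P, w, k, hk, by rw [h14, mul_one]⟩

/-- representatives in parabolic subgroups -/
theorem mem_WJ_of_rep {K : Set I} {w : W} {g : Y} (hg : Rp cs R.nsys w g) (h1 : g ∈ PJ cs h T X K) :
    w ∈ WJ cs K := by
  have hc : Cell R.nsys cs h X w g := ⟨1, one_mem _, g, hg, 1, one_mem _, by group⟩
  exact (cell_mem_PJ_iff R hc).1 h1

end RGD

section Lim

variable {I W Y : Type*} [Fintype I] [DecidableEq I] [Group W] [Group Y] {M : CoxeterMatrix I}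
  {cs : CoxeterSystem M W} {A : I → I → ℤ} {h : IsCartan M A} {p : ℕ}
variable {J' : Type*} [Preorder J'] {T : J' → Subgroup Y} {n : I → Y} {X : J' → (I → ℤ) → Subgroup Y}
  (H : Tow cs h p T n X) [Finite W]

theorem mono_PJ {j j' : J'} (H : Tow cs h p T n X) (hj : j ≤ j') (K : Set I) :
    PJ cs h (T j) (X j) K ≤ PJ cs h (T j') (X j') K :=
  sup_le_sup (sup_le_sup (H.monoT hj) (H.mono_Sup _ hj)) (H.mono_Sup _ hj)

theorem mono_LJ {j j' : J'} (H : Tow cs h p T n X) (hj : j ≤ j') (K : Set I) :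
    LJ cs h (T j) (X j) K ≤ LJ cs h (T j') (X j') K :=
  sup_le_sup (H.monoT hj) (H.mono_Sup _ hj)

omit [Finite W] in
theorem LJL_eq (J : Set I) : LJ cs h (TL T) (XL X) J = ⨆ j, LJ cs h (T j) (X j) J := by
  unfold LJ TL
  rw [Sup_eq, iSup_sup_eq]

include H

theorem mem_LJL {J : Set I} {y : Y} : y ∈ LJ cs h (TL T) (XL X) J ↔ ∃ j, y ∈ LJ cs h (T j) (X j) J := by
  rw [LJL_eq]
  exact H.mem_iSup fun a b hab => mono_LJ H hab J

theorem exists_of_conjL {K : Set I} {t y : Y} (ht : t ∈ TL T)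
    (hreg : ∀ a, IsRoot cs h a → 0 ≤ a → ∀ x ∈ XL X a, t * x = x * t → x = 1) (hy : y ∈ GG cs h (TL T) (XL X))
    (h1 : y * t * y⁻¹ ∈ PJ cs h (TL T) (XL X) K) :
    ∃ a ∈ PJ cs h (TL T) (XL X) K, ∃ w k, Rp cs H.nsys w k ∧ y = a * k := by
  obtain ⟨j1, h2⟩ := H.mem_TL.1 ht
  obtain ⟨j2, h3⟩ := H.mem_GG.1 hy
  obtain ⟨j3, h4⟩ := (H381.Car.mem_PJL H).1 h1
  obtain ⟨j4, a1, a2⟩ := H.dir j1 j2
  obtain ⟨j, a3, a4⟩ := H.dir j3 j4
  obtain ⟨a, ha, w, k, hk, e⟩ := exists_of_conj (H.rgd j) (K := K) (H.monoT (a1.trans a4) h2)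
    (fun a ha h0 x hx hc => hreg a ha h0 x (le_XL j a hx) hc) (H.mono_GG (a2.trans a4) h3) (mono_PJ H a3 K h4)
  exact ⟨a, (H381.Car.mem_PJL H).2 ⟨j, ha⟩, w, k, H.rp_up hk, e⟩

theorem mem_WJ_of_repL {K : Set I} {w : W} {g : Y} (hg : Rp cs H.nsys w g) (h1 : g ∈ PJ cs h (TL T) (XL X) K) :
    w ∈ WJ cs K := by
  obtain ⟨j1, h2⟩ := H.rp_down hg
  obtain ⟨j2, h3⟩ := (H381.Car.mem_PJL H).1 h1
  obtain ⟨j, a1, a2⟩ := H.dir j1 j2
  exact mem_WJ_of_rep (H.rgd j) (H.rp_mono a1 h2) (mono_PJ H a2 K h3)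

theorem rp_mem_LJL {K : Set I} {w : W} (hw : w ∈ WJ cs K) {g : Y} (hg : Rp cs H.nsys w g) :
    g ∈ LJ cs h (TL T) (XL X) K := by
  obtain ⟨j, h2⟩ := H.rp_down hg
  exact (mem_LJL H).2 ⟨j, rp_mem_LJ (H.rgd j) hw h2⟩

theorem LJL_inf_VJL {J : Set I} {y : Y} (h1 : y ∈ LJ cs h (TL T) (XL X) J) (h2 : y ∈ VJ cs h (XL X) J) : y = 1 := by
  obtain ⟨j1, h3⟩ := (mem_LJL H).1 h1
  obtain ⟨j2, h4⟩ := H.mem_Sup.1 h2
  obtain ⟨j, a1, a2⟩ := H.dir j1 j2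
  exact eq_one_of_mem_LJ_of_mem_VJ (H.rgd j) (mono_LJ H a1 J h3) (H.mono_Sup _ a2 h4)

end Lim

end Cfsg.Agent.H798.OZ
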